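import Mathlib

/-!
# Homotopy equivalences of underlying simplicial sets of simplicial abelian groups
-/

set_option autoImplicit false

universe u

open CategoryTheory CategoryTheory.Limits AlgebraicTopology Opposite
open AlgebraicTopology.DoldKan

namespace Groth.Agent.SimpAbHtpyLib

section Homology

variable {ι : Type} {c : ComplexShape ι} (K : HomologicalComplex AddCommGrpCat.{u} c)

lemma exists_cycle {i j : ι} (hj : c.next i = j) (x : K.X i) (hx : K.d i j x = 0) :
    ∃ z : K.cycles i, K.iCycles i z = x := by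
  let k : AddCommGrpCat.of (ULift.{u} ℤ) ⟶ K.X i :=
    AddCommGrpCat.ofHom ((zmultiplesHom _ x).comp (AddEquiv.ulift.{0, u} (α := ℤ)).toAddMonoidHom)
  have hk : k ≫ K.d i j = 0 := by
    ext m
    simp [k, hx]
  refine ⟨K.liftCycles k j hj hk ⟨1⟩, ?_⟩
  rw [← ConcreteCategory.comp_apply, K.liftCycles_i]
  simp [k]
  exact one_smul ℤ x

lemma homologyπ_eq_zero_iff {i j : ι} (hi : c.prev j = i) (z : K.cycles j) :
    K.homologyπ j z = 0 ↔ ∃ y : K.X i, K.d i j y = K.iCycles j z := by
  constructor
  · intro h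
    obtain ⟨y, hy⟩ := (ShortComplex.ab_exact_iff _).1 ((ShortComplex.mk _ _
      (K.toCycles_comp_homologyπ i j)).exact_of_g_is_cokernel (K.homologyIsCokernel i j hi)) z h
    refine ⟨y, ?_⟩
    rw [← hy, ← ConcreteCategory.comp_apply, K.toCycles_i]
  · rintro ⟨y, hy⟩
    have : K.toCycles i j y = z := by
      apply (AddCommGrpCat.mono_iff_injective (K.iCycles j)).1 inferInstance
      rw [← ConcreteCategory.comp_apply, K.toCycles_i, hy]
    rw [← this, ← ConcreteCategory.comp_apply, K.toCycles_comp_homologyπ]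
    rfl

lemma homologyπ_eq_iff {i j : ι} (hi : c.prev j = i) (z z' : K.cycles j) :
    K.homologyπ j z = K.homologyπ j z' ↔
      ∃ y : K.X i, K.d i j y = K.iCycles j z - K.iCycles j z' := by
  rw [← sub_eq_zero, ← map_sub, homologyπ_eq_zero_iff K hi, map_sub]

lemma homologyπ_surjective (j : ι) : Function.Surjective (K.homologyπ j) :=
  (AddCommGrpCat.epi_iff_surjective _).1 inferInstance

end Homology

variable {X Y : SimplicialObject AddCommGrpCat.{u}}

/-- The free simplicial abelian group on the underlying simplicial set. -/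
noncomputable abbrev Fr (X : SimplicialObject AddCommGrpCat.{u}) : SimplicialObject AddCommGrpCat.{u} :=
  (X ⋙ forget AddCommGrpCat.{u}) ⋙ AddCommGrpCat.free

/-- Its augmentation. -/
noncomputable def aug (X : SimplicialObject AddCommGrpCat.{u}) : Fr X ⟶ X :=
  Functor.whiskerLeft X AddCommGrpCat.adj.counit

/-- A generator. -/
noncomputable def gen {n : ℕ} (x : X.obj (op (SimplexCategory.mk n))) :
    (Fr X).obj (op (SimplexCategory.mk n)) :=
  FreeAbelianGroup.of x

lemma aug_gen {n : ℕ} (x : X.obj (op (SimplexCategory.mk n))) :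
    (aug X).app _ (gen x) = x := by
  show FreeAbelianGroup.lift id (FreeAbelianGroup.of x) = x
  exact FreeAbelianGroup.lift_apply_of _ _

lemma Fr_map_gen {n m : ℕ} (θ : SimplexCategory.mk m ⟶ SimplexCategory.mk n)
    (x : X.obj (op (SimplexCategory.mk n))) : (Fr X).map θ.op (gen x) = gen (X.map θ.op x) :=
  FreeAbelianGroup.map_of_apply _

/-- The complex of a simplicial object. -/
noncomputable abbrev Cx (X : SimplicialObject AddCommGrpCat.{u}) : ChainComplex AddCommGrpCat.{u} ℕ :=
  AlternatingFaceMapComplex.obj X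

/-- The map of complexes of a map of simplicial objects. -/
noncomputable abbrev cm {X Y : SimplicialObject AddCommGrpCat.{u}} (φ : X ⟶ Y) : Cx X ⟶ Cx Y :=
  AlternatingFaceMapComplex.map φ

lemma cm_comp {X Y Z : SimplicialObject AddCommGrpCat.{u}} (φ : X ⟶ Y) (ψ : Y ⟶ Z) :
    cm (φ ≫ ψ) = cm φ ≫ cm ψ := (alternatingFaceMapComplex AddCommGrpCat.{u}).map_comp φ ψ

lemma cm_id (X : SimplicialObject AddCommGrpCat.{u}) : cm (𝟙 X) = 𝟙 (Cx X) :=
  (alternatingFaceMapComplex AddCommGrpCat.{u}).map_id X

lemma d_apply (X : SimplicialObject AddCommGrpCat.{u}) (m : ℕ)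
    (x : X.obj (op (SimplexCategory.mk (m + 1)))) :
    (Cx X).d (m + 1) m x = ∑ i : Fin (m + 2), ((-1 : ℤ) ^ (i : ℕ)) • X.δ i x := by
  rw [AlternatingFaceMapComplex.obj_d_eq]
  let ev : (X.obj (op (SimplexCategory.mk (m + 1))) ⟶ X.obj (op (SimplexCategory.mk m))) →+
      X.obj (op (SimplexCategory.mk m)) := AddMonoidHom.mk' (fun φ => φ x) (fun _ _ => rfl)
  show ev _ = _
  rw [map_sum]
  exact Finset.sum_congr rfl fun i _ => map_zsmul ev _ _

/-- Faces other than the first one vanish. -/
def Normal {n : ℕ} (x : X.obj (op (SimplexCategory.mk n))) : Prop :=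
  match n, x with
  | 0, _ => True
  | m + 1, x => ∀ i : Fin (m + 1), X.δ i.succ x = 0

lemma normal_PInfty {n : ℕ} (x : X.obj (op (SimplexCategory.mk n))) :
    Normal ((PInfty (X := X)).f n x) := by
  cases n with
  | zero => trivial
  | succ m =>
    intro i
    have h := (HigherFacesVanish.of_P (X := X) (m + 1) m) i le_add_self
    rw [← PInfty_f] at h
    exact (ConcreteCategory.comp_apply _ _ x).symm.trans (ConcreteCategory.congr_hom h x)

lemma d_normal {m : ℕ} (x : X.obj (op (SimplexCategory.mk (m + 1)))) (hx : Normal x) :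
    (Cx X).d (m + 1) m x = X.δ 0 x := by
  rw [d_apply, Fin.sum_univ_succ, Finset.sum_eq_zero fun i _ => by rw [hx i, smul_zero]]
  simp

/-- `[x] - [0]`. -/
noncomputable def red {n : ℕ} (x : X.obj (op (SimplexCategory.mk n))) :
    (Fr X).obj (op (SimplexCategory.mk n)) := gen x - gen (0 : X.obj (op (SimplexCategory.mk n)))

lemma aug_red {n : ℕ} (x : X.obj (op (SimplexCategory.mk n))) : (aug X).app _ (red x) = x := by
  rw [red, map_sub, aug_gen, aug_gen, sub_zero]

lemma red_zero {n : ℕ} : red (0 : X.obj (op (SimplexCategory.mk n))) = 0 := sub_self _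

lemma d_red {m : ℕ} (x : X.obj (op (SimplexCategory.mk (m + 1)))) (hx : Normal x) :
    (Cx (Fr X)).d (m + 1) m (red x) = red (X.δ 0 x) := by
  have h : ∀ i : Fin (m + 2), (Fr X).δ i (red x) = red (X.δ i x) := fun i => by
    show (Fr X).map (SimplexCategory.δ i).op (red x) = _
    rw [red, map_sub, Fr_map_gen, Fr_map_gen, map_zero]
    rfl
  rw [d_apply, Fin.sum_univ_succ, Finset.sum_eq_zero fun i _ => by rw [h, hx i, red_zero, smul_zero]]
  simp only [Fin.val_zero, pow_zero, one_smul, add_zero, h]

lemma red_cycle {n : ℕ} (x : X.obj (op (SimplexCategory.mk n))) (hx : Normal x)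
    (hd : (Cx X).d n ((ComplexShape.down ℕ).next n) x = 0) :
    (Cx (Fr X)).d n ((ComplexShape.down ℕ).next n) (red x) = 0 := by
  cases n with
  | zero =>
    rw [(Cx (Fr X)).shape _ _ (by simp)]
    rfl
  | succ m =>
    rw [ChainComplex.next_nat_succ] at hd ⊢
    rw [d_normal x hx] at hd
    rw [d_red x hx, hd, red_zero]

/-- Every class has a normalised representative. -/
lemma exists_normal_rep {n : ℕ} (h : (Cx X).homology n) :
    ∃ z : (Cx X).cycles n, Normal ((Cx X).iCycles n z) ∧ (Cx X).homologyπ n z = h := by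
  obtain ⟨z, rfl⟩ := homologyπ_surjective (Cx X) n h
  refine ⟨HomologicalComplex.cyclesMap (PInfty (X := X)) n z, ?_, ?_⟩
  · rw [← ConcreteCategory.comp_apply, HomologicalComplex.cyclesMap_i, ConcreteCategory.comp_apply]
    exact normal_PInfty _
  · rw [← ConcreteCategory.comp_apply, ← HomologicalComplex.homologyπ_naturality,
      Homotopy.homologyMap_eq (homotopyPInftyToId X) n, HomologicalComplex.homologyMap_id,
      Category.comp_id]

variable (f : X ⟶ Y)
  (g : (Y ⋙ forget AddCommGrpCat.{u} : SSet.{u}) ⟶ (X ⋙ forget AddCommGrpCat.{u} : SSet.{u}))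

/-- Free map of a map of underlying simplicial sets. -/
noncomputable abbrev freeMap {S T : SimplicialObject (Type u)} (φ : S ⟶ T) :
    S ⋙ AddCommGrpCat.free.{u} ⟶ T ⋙ AddCommGrpCat.free.{u} :=
  Functor.whiskerRight φ AddCommGrpCat.free.{u}

lemma homologyMap_freeMap_eq {S T : SSet.{u}} {φ ψ : S ⟶ T}
    (h : Nonempty (SSet.Homotopy φ ψ) ∨ Nonempty (SSet.Homotopy ψ φ)) (n : ℕ) :
    HomologicalComplex.homologyMap (cm (freeMap φ)) n =
      HomologicalComplex.homologyMap (cm (freeMap ψ)) n := by
  rcases h with ⟨⟨H⟩⟩ | ⟨⟨H⟩⟩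
  · exact Homotopy.homologyMap_eq
      (H.toSimplicialObjectHomotopy.whiskerRight AddCommGrpCat.free.{u}).toChainHomotopy n
  · exact (Homotopy.homologyMap_eq
      (H.toSimplicialObjectHomotopy.whiskerRight AddCommGrpCat.free.{u}).toChainHomotopy n).symm

lemma aug_naturality :
    freeMap (Functor.whiskerRight f (forget AddCommGrpCat.{u})) ≫ aug Y = aug X ≫ f := by
  apply NatTrans.ext
  funext n
  exact AddCommGrpCat.adj.counit.naturality (f.app n)

theorem quasiIso
    (hX : Nonempty (SSet.Homotopy (Functor.whiskerRight f (forget AddCommGrpCat.{u}) ≫ g) (𝟙 _)) ∨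
      Nonempty (SSet.Homotopy (𝟙 _) (Functor.whiskerRight f (forget AddCommGrpCat.{u}) ≫ g)))
    (hY : Nonempty (SSet.Homotopy (g ≫ Functor.whiskerRight f (forget AddCommGrpCat.{u})) (𝟙 _)) ∨
      Nonempty (SSet.Homotopy (𝟙 _) (g ≫ Functor.whiskerRight f (forget AddCommGrpCat.{u})))) :
    QuasiIso ((alternatingFaceMapComplex AddCommGrpCat.{u}).map f) := by
  show QuasiIso (cm f)
  let F := freeMap (Functor.whiskerRight f (forget AddCommGrpCat.{u}))
  let G := freeMap g
  refine ⟨fun n => ?_⟩
  rw [quasiIsoAt_iff_isIso_homologyMap]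
  have e₁ : HomologicalComplex.homologyMap (cm F) n ≫ HomologicalComplex.homologyMap (cm G) n =
      𝟙 _ := by
    rw [← HomologicalComplex.homologyMap_comp, ← cm_comp]
    have h := homologyMap_freeMap_eq hX n
    rw [show freeMap (𝟙 (X ⋙ forget AddCommGrpCat.{u})) = 𝟙 _ from Functor.whiskerRight_id' _,
      cm_id, HomologicalComplex.homologyMap_id] at h
    rw [← h]
    congr 2
    exact (Functor.whiskerRight_comp _ _ _).symm
  have e₂ : HomologicalComplex.homologyMap (cm G) n ≫ HomologicalComplex.homologyMap (cm F) n =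
      𝟙 _ := by
    rw [← HomologicalComplex.homologyMap_comp, ← cm_comp]
    have h := homologyMap_freeMap_eq hY n
    rw [show freeMap (𝟙 (Y ⋙ forget AddCommGrpCat.{u})) = 𝟙 _ from Functor.whiskerRight_id' _,
      cm_id, HomologicalComplex.homologyMap_id] at h
    rw [← h]
    congr 2
    exact (Functor.whiskerRight_comp _ _ _).symm
  have nat : HomologicalComplex.homologyMap (cm F) n ≫ HomologicalComplex.homologyMap (cm (aug Y)) n =
      HomologicalComplex.homologyMap (cm (aug X)) n ≫ HomologicalComplex.homologyMap (cm f) n := by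
    rw [← HomologicalComplex.homologyMap_comp, ← HomologicalComplex.homologyMap_comp, ← cm_comp,
      ← cm_comp, aug_naturality]
  have lift : ∀ (Z : SimplicialObject AddCommGrpCat.{u}) (z : (Cx Z).cycles n),
      Normal ((Cx Z).iCycles n z) → ∃ w : (Cx (Fr Z)).cycles n,
        (Cx (Fr Z)).iCycles n w = red ((Cx Z).iCycles n z) ∧
          HomologicalComplex.homologyMap (cm (aug Z)) n ((Cx (Fr Z)).homologyπ n w) =
            (Cx Z).homologyπ n z := by
    intro Z z hz
    obtain ⟨w, hw⟩ := exists_cycle (Cx (Fr Z)) (i := n) rfl (red ((Cx Z).iCycles n z))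
      (red_cycle _ hz (by rw [← ConcreteCategory.comp_apply, HomologicalComplex.iCycles_d]; rfl))
    refine ⟨w, hw, ?_⟩
    rw [← ConcreteCategory.comp_apply, HomologicalComplex.homologyπ_naturality, ConcreteCategory.comp_apply]
    congr 1
    apply (AddCommGrpCat.mono_iff_injective ((Cx Z).iCycles n)).1 inferInstance
    rw [← ConcreteCategory.comp_apply, HomologicalComplex.cyclesMap_i, ConcreteCategory.comp_apply, hw]
    exact aug_red _
  rw [ConcreteCategory.isIso_iff_bijective]
  refine ⟨(injective_iff_map_eq_zero _).2 fun h hh => ?_, fun h => ?_⟩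
  · obtain ⟨z, hz, rfl⟩ := exists_normal_rep h
    obtain ⟨w, hw, hwz⟩ := lift X z hz
    rw [← ConcreteCategory.comp_apply, HomologicalComplex.homologyπ_naturality,
      ConcreteCategory.comp_apply, homologyπ_eq_zero_iff _ (ChainComplex.prev ℕ n)] at hh
    obtain ⟨y, hy⟩ := hh
    rw [← ConcreteCategory.comp_apply, HomologicalComplex.cyclesMap_i, ConcreteCategory.comp_apply] at hy
    -- normalise the bounding chain
    have hnY : Normal (f.app _ ((Cx X).iCycles n z)) := by
      cases n with
      | zero => trivial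
      | succ m =>
        intro i
        have h := ConcreteCategory.congr_hom (f.naturality (SimplexCategory.δ i.succ).op)
          ((Cx X).iCycles (m + 1) z)
        rw [ConcreteCategory.comp_apply, ConcreteCategory.comp_apply] at h
        refine h.symm.trans ?_
        exact (congrArg _ (hz i)).trans (map_zero _)
    have hy' : Y.δ 0 ((PInfty (X := Y)).f (n + 1) y) = f.app _ ((Cx X).iCycles n z) := by
      rw [← d_normal _ (normal_PInfty y), ← ConcreteCategory.comp_apply, (PInfty (X := Y)).comm,
        ConcreteCategory.comp_apply, hy]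
      cases n with
      | zero => rw [PInfty_f_0]; rfl
      | succ m =>
        have hv : ∀ j : Fin (m + 1), Y.δ j.succ (f.app _ ((Cx X).iCycles (m + 1) z)) = 0 := hnY
        let k : AddCommGrpCat.of (ULift.{u} ℤ) ⟶ Y.obj (op (SimplexCategory.mk (m + 1))) :=
          AddCommGrpCat.ofHom ((zmultiplesHom _ (f.app _ ((Cx X).iCycles (m + 1) z))).comp
            (AddEquiv.ulift.{0, u} (α := ℤ)).toAddMonoidHom)
        have hk : HigherFacesVanish (m + 1) k := fun j _ => by
          ext t
          simp [k, hv j]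
        have := ConcreteCategory.congr_hom hk.comp_P_eq_self (⟨1⟩ : ULift.{u} ℤ)
        rw [ConcreteCategory.comp_apply] at this
        simp [k, PInfty_f] at this
        exact ((one_smul ℤ _).symm.trans this).trans (one_smul ℤ _)
    suffices (Cx (Fr X)).homologyπ n w = 0 by rw [← hwz, this, map_zero]
    have hFw : HomologicalComplex.homologyMap (cm F) n ((Cx (Fr X)).homologyπ n w) = 0 := by
      rw [← ConcreteCategory.comp_apply, HomologicalComplex.homologyπ_naturality,
        ConcreteCategory.comp_apply, homologyπ_eq_zero_iff _ (ChainComplex.prev ℕ n)]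
      refine ⟨red ((PInfty (X := Y)).f (n + 1) y), ?_⟩
      rw [← ConcreteCategory.comp_apply (HomologicalComplex.cyclesMap _ n), HomologicalComplex.cyclesMap_i,
        ConcreteCategory.comp_apply, hw, d_red _ (normal_PInfty y), hy']
      show red _ = (F.app _) (red _)
      rw [red, red, map_sub]
      congr 1
      refine Eq.trans ?_ (FreeAbelianGroup.map_of_apply _).symm
      exact congrArg gen (map_zero (f.app _).hom).symm
    have := congrArg (HomologicalComplex.homologyMap (cm G) n) hFw
    rwa [← ConcreteCategory.comp_apply, e₁, map_zero] at this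
  · obtain ⟨z, hz, rfl⟩ := exists_normal_rep h
    obtain ⟨w, hw, hwz⟩ := lift Y z hz
    refine ⟨HomologicalComplex.homologyMap (cm (aug X)) n
      (HomologicalComplex.homologyMap (cm G) n ((Cx (Fr Y)).homologyπ n w)), ?_⟩
    rw [← ConcreteCategory.comp_apply, ← nat, ConcreteCategory.comp_apply, ← hwz]
    congr 1
    rw [← ConcreteCategory.comp_apply, e₂]
    rfl

end Groth.Agent.SimpAbHtpyLib
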